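import Groth.Agent.S7320
import Groth.Agent.L13.DescendBlowUp.Main
import Groth.Agent.L13.RatSing.Birat
import Groth.Agent.L13.RatSing.Seq
import Groth.Agent.L05.RatPow.MaxModif
import Groth.Agent.L05.RatCrit.Basic
import Groth.Agent.L05.PtSeq.Birational

/-!
# Modifications of regular surfaces have no first direct image
-/

set_option autoImplicit false
set_option linter.style.haveILetI false
set_option maxHeartbeats 1000000
set_option backward.isDefEq.respectTransparency false
set_option backward.isDefEq.respectTransparency.types false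

universe u

open CategoryTheory CategoryTheory.Limits AlgebraicGeometry TopologicalSpace Opposite
open Groth.L05.MinDesing (IsBir)

noncomputable section

namespace Groth.L05.ResNorm

/-- A regular local ring of dimension two is rational; no Nagata hypothesis is needed. -/
theorem isRationalSing_regular (A : Type u) [CommRing A] [IsRegularLocalRing A] (hdim : ringKrullDim A = 2) :
    Curv2.IsRationalSing A := by
  intro X f hp hint hnorm ⟨U, hUne, hUiso⟩
  haveI := hp; haveI := hint; haveI := hUiso
  haveI : IsDomain A := Groth.L01.isDomain_of_regular A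
  let S := Spec (CommRingCat.of A)
  have hS : Pi1.IsNormalScheme S := Groth.L13.RatSing.isNormalScheme_Spec
  obtain ⟨hξ, hbir⟩ := Groth.L13.RatSing.birational_of_isIso_restrict f U hUne
  obtain ⟨V, hVi, -, hV⟩ := Groth.Agent.S11555.result f hS hξ hbir
  haveI := hVi
  let T : Set S := {IsLocalRing.closedPoint A}
  have hTc : IsClosed T := (PrimeSpectrum.isClosed_singleton_iff_isMaximal _).2 (IsLocalRing.maximalIdeal.isMaximal A)
  let W : S.Opens := ⟨Tᶜ, hTc.isOpen_compl⟩
  have hWV : W ≤ V := fun p hp => by
    by_contra hpV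
    exact hp (Groth.L13.RatSing.eq_closedPoint hdim p (hV p hpV))
  haveI hfW : IsIso (f ∣_ W) := Groth.L13.RatSing.isIso_restrict_le f hWV
  obtain ⟨hr, hd⟩ := Groth.L13.RatSing.stalk_closedPoint (A := A) hdim
  obtain ⟨X', g, hg, hgW, h, hhg⟩ := Groth.Agent.S7320.result S T (Set.finite_singleton _) hTc
    (fun x hx => (Set.mem_singleton_iff.1 hx) ▸ ⟨hTc, hr, hd⟩) f hfW
  obtain ⟨hgp, hg1⟩ := Groth.L13.RatSing.isProper_and_subsingleton_H1 hg
  haveI := Groth.L13.RatSing.isIntegral_of_seq hg inferInstance
  haveI : IsProper (h ≫ f) := hhg ▸ hgp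
  haveI : IsProper h := IsProper.of_comp h f
  haveI : IsIso ((h ≫ f) ∣_ W) := hhg ▸ hgW
  haveI := Groth.L13.DescendBlowUp.isIso_restrict_left h f W
  have hη : genericPoint S ≠ IsLocalRing.closedPoint A := fun he => by
    rw [← he, ringKrullDim_eq_zero_of_isField (Field.toIsField S.functionField)] at hd
    exact absurd hd (by norm_num)
  have hne : ((f ⁻¹ᵁ W : X.Opens) : Set X).Nonempty := ⟨genericPoint X, by
    show f (genericPoint X) ∈ W
    rw [hξ]
    exact hη⟩
  obtain ⟨p⟩ := Groth.L13.RatSing.nonempty_push_structure h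
    (Groth.L13.RatSing.isIso_app_of_isIso_restrict h hnorm _ hne)
  exact Groth.L14.LocHilbLift.subsingleton_HH_of_iso p 1
    (Groth.L13.RatSing.subsingleton_HH_push_one h _ (hg1 inferInstance))

/-- A regular local ring of dimension at most two is rational. -/
theorem isRationalSing_regular_le (A : Type u) [CommRing A] [IsRegularLocalRing A] (hdim : ringKrullDim A ≤ 2) :
    Curv2.IsRationalSing A := by
  haveI := Groth.L01.isDomain_of_regular A
  by_cases h2 : ringKrullDim A = 2
  · exact isRationalSing_regular A h2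
  · haveI := Groth.L03.RegularNormal.isIntegrallyClosed A
    refine Groth.L05.RatSpread.isRationalSing_of_dim_le_one A ?_
    have hlt := lt_of_le_of_ne hdim h2
    rcases hd : ringKrullDim A with _ | d
    · exact bot_le
    · rw [hd] at hlt
      exact WithBot.coe_le_coe.2 (Order.le_of_lt_succ (by simpa [one_add_one_eq_two] using WithBot.coe_lt_coe.1 hlt))

variable {W Z X : Scheme.{u}}

/-- A modification of a regular surface factors through any intermediate one without first cohomology at its points. -/
theorem subsingleton_H1_local (hX : Groth.L05.PtSeq.IsRegSurf X) [IsIntegral W] (hW : Pi1.IsNormalScheme W)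
    [IsLocallyNoetherian Z] (h : W ⟶ Z) [IsProper h] (q : Z ⟶ X) (ρ : W ⟶ X) [IsProper ρ]
    (hρ : h ≫ q = ρ) (hbir : IsBir ρ) {z : Z} (hz : IsClosed ({z} : Set Z)) :
    Subsingleton (Coh.HH (pullback h (Z.fromSpecStalk z) : Scheme.{u})
      (Coh.structureModule (pullback h (Z.fromSpecStalk z) : Scheme.{u})) 1) := by
  haveI := hX.integral
  haveI := hX.noeth
  let x := q z
  haveI := hX.reg x
  haveI := Groth.L01.isDomain_of_regular (X.presheaf.stalk x)
  haveI : IsLocallyNoetherian W := LocallyOfFiniteType.isLocallyNoetherian ρ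
  haveI := Groth.L17.PushQCoh.hasInjectiveResolutions W
  obtain ⟨hi, hp, hn, hb, -⟩ := Groth.L05.RatSpread.localModification ρ hW hbir x
  have hrat := isRationalSing_regular_le (X.presheaf.stalk x)
    ((Groth.L13.ModFibre.ringKrullDim_stalk_le_topologicalKrullDim x).trans hX.dim)
  have h0 := hrat _ _ hp hi hn hb
  have hRx : Subsingleton (((Coh.Rpush ρ 1).obj (Coh.structureModule W)).presheaf.stalk x) := by
    letI : (pullback ρ (X.fromSpecStalk x) : Scheme.{u}).Over (Spec (CommRingCat.of (X.presheaf.stalk x))) :=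
      ⟨pullback.snd ρ (X.fromSpecStalk x)⟩
    obtain ⟨E⟩ := Groth.L16.Rees.exists_stalk_equiv ρ (Coh.structureModule W) Groth.L16.CohClosedPush.isCoh_structure x 1
      (pullback.fst ρ (X.fromSpecStalk x)) (IsPullback.of_hasPullback _ _)
    haveI := h0
    haveI : Subsingleton (Coh.HH (pullback ρ (X.fromSpecStalk x) : Scheme.{u})
        ((Scheme.Modules.pullback (pullback.fst ρ (X.fromSpecStalk x))).obj (Coh.structureModule W)) 1) :=
      (Groth.L17.BC.HHequiv (Groth.L29.LocFree.pullbackUnitIso (pullback.fst ρ (X.fromSpecStalk x))) 1).toEquiv.subsingleton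
    exact E.toEquiv.subsingleton
  obtain ⟨U, hU, hiso⟩ := id hbir
  haveI := hiso
  obtain ⟨eρ, -⟩ := Groth.L05.PtSeq.birational_data ρ hbir
  have hne : ∃ w, ρ w ∈ U := ⟨genericPoint W, by rw [eρ]; exact Groth.L05.MinDesing.genericPoint_mem hU⟩
  have hd : ∀ y, topologicalKrullDim ↥(ρ.fiber y) ≤ (1 : ℕ) := fun y =>
    Groth.L13.ModFibre.topologicalKrullDim_fiber_le_one ρ U hne (fun w =>
      (Groth.L13.ModFibre.ringKrullDim_stalk_le ρ U hne w).trans
        ((Groth.L13.ModFibre.ringKrullDim_stalk_le_topologicalKrullDim _).trans hX.dim)) y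
  have hRz : Subsingleton (((Coh.Rpush h 1).obj (Coh.structureModule W)).presheaf.stalk z) :=
    Groth.L05.RatCrit.subsingleton_stalk_of_H1 h z hz fun Zs i hicl hr => by
      haveI := hicl
      exact Groth.L05.RatCrit.subsingleton_H1_of_stalk ρ x hRx hd i fun w => by
        have : h (i w) = z := hr.le ⟨w, rfl⟩
        rw [← hρ, Scheme.Hom.comp_apply, this]
  letI : (pullback h (Z.fromSpecStalk z) : Scheme.{u}).Over (Spec (CommRingCat.of (Z.presheaf.stalk z))) :=
    ⟨pullback.snd h (Z.fromSpecStalk z)⟩
  obtain ⟨E⟩ := Groth.L16.Rees.exists_stalk_equiv h (Coh.structureModule W) Groth.L16.CohClosedPush.isCoh_structure z 1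
    (pullback.fst h (Z.fromSpecStalk z)) (IsPullback.of_hasPullback _ _)
  haveI := hRz
  haveI : Subsingleton (Coh.HH (pullback h (Z.fromSpecStalk z) : Scheme.{u})
      ((Scheme.Modules.pullback (pullback.fst h (Z.fromSpecStalk z))).obj (Coh.structureModule W)) 1) :=
    E.toEquiv.symm.subsingleton
  exact (Groth.L17.BC.HHequiv (Groth.L29.LocFree.pullbackUnitIso (pullback.fst h (Z.fromSpecStalk z))) 1).toEquiv.symm.subsingleton

end Groth.L05.ResNorm
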