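import Groth.Agent.L10.RegularUFD
import Mathlib.RingTheory.Nullstellensatz
import Mathlib.RingTheory.Ideal.KrullsHeightTheorem
import Mathlib.RingTheory.UniqueFactorizationDomain.GCDMonoid
import Mathlib.RingTheory.UniqueFactorizationDomain.Kaplansky

/-! Saturated ideals of regular local rings of dimension at most two are principal. -/

set_option autoImplicit false
set_option linter.style.haveILetI false

universe u

namespace Groth.L05.ResNorm

open IsLocalRing

variable {R : Type u} [CommRing R] [IsRegularLocalRing R]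

/-- In a factorial ring every ideal is a multiple of one not inside any proper principal ideal. -/
theorem exists_content [IsDomain R] [UniqueFactorizationMonoid R] (J : Ideal R) (hJ : J ≠ ⊥) :
    ∃ (g : R) (K : Ideal R), g ≠ 0 ∧ J = Ideal.span {g} * K ∧ ∀ p : R, Prime p → ¬ K ≤ Ideal.span {p} := by
  obtain ⟨a, ha, ha0⟩ := Submodule.exists_mem_ne_zero_of_ne_bot hJ
  -- induct on a nonzero element
  suffices h : ∀ a : R, a ≠ 0 → ∀ J : Ideal R, a ∈ J →
      ∃ (g : R) (K : Ideal R), g ≠ 0 ∧ J = Ideal.span {g} * K ∧ ∀ p : R, Prime p → ¬ K ≤ Ideal.span {p} from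
    h a ha0 J ha
  clear ha0 ha a hJ J
  intro a
  induction a using (wellFounded_dvdNotUnit (α := R)).induction with
  | _ a ih =>
    intro ha0 J ha
    by_cases h : ∃ p : R, Prime p ∧ J ≤ Ideal.span {p}
    · obtain ⟨p, hp, hJp⟩ := h
      obtain ⟨b, rfl⟩ := Ideal.mem_span_singleton.1 (hJp ha)
      let J' : Ideal R := Submodule.comap (LinearMap.mulLeft R p) J
      have hJ' : J = Ideal.span {p} * J' := by
        refine le_antisymm (fun x hx => ?_) (Ideal.mul_le.2 fun s hs t ht => ?_)
        · obtain ⟨y, rfl⟩ := Ideal.mem_span_singleton.1 (hJp hx)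
          exact Ideal.mul_mem_mul (Ideal.mem_span_singleton_self p) hx
        · obtain ⟨c, rfl⟩ := Ideal.mem_span_singleton.1 hs
          rw [mul_comm p c, mul_assoc]
          exact J.mul_mem_left c ht
      obtain ⟨g, K, hg, hgK, hK⟩ := ih b ⟨right_ne_zero_of_mul ha0, p, hp.not_unit, mul_comm p b⟩
        (right_ne_zero_of_mul ha0) J' ha
      exact ⟨p * g, K, mul_ne_zero hp.ne_zero hg,
        by rw [hJ', hgK, ← mul_assoc, Ideal.span_singleton_mul_span_singleton], hK⟩
    · push Not at h
      exact ⟨1, J, one_ne_zero, by rw [Ideal.span_singleton_one, Ideal.top_mul], h⟩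

/-- An ideal with no socle modulo it is principal. -/
theorem isPrincipal_of_saturated (hdim : ringKrullDim R ≤ 2) (J : Ideal R) (hJ : J ≠ ⊥)
    (h : ∀ a : R, (∀ r ∈ maximalIdeal R, r * a ∈ J) → a ∈ J) : ∃ g, g ≠ 0 ∧ J = Ideal.span {g} := by
  haveI := Groth.L01.isDomain_of_regular R
  haveI := Groth.L10.RegUFD.isUFD R
  obtain ⟨g, K, hg, hgK, hK⟩ := exists_content J hJ
  refine ⟨g, hg, ?_⟩
  suffices hK' : K = ⊤ by rw [hgK, hK', Ideal.mul_top]
  by_contra hne
  have hK0 : K ≠ ⊥ := fun h0 => hJ (by rw [hgK, h0, Ideal.mul_bot])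
  have hrad : maximalIdeal R ≤ K.radical := by
    rw [Ideal.radical_eq_sInf]
    refine le_sInf fun q ⟨hle, hq⟩ => ?_
    by_contra hnq
    haveI := hq
    have hq0 : q ≠ ⊥ := fun h0 => hK0 (le_bot_iff.1 (h0 ▸ hle))
    have hlt : q < maximalIdeal R := lt_of_le_of_ne (le_maximalIdeal hq.ne_top) fun e => hnq e.ge
    obtain ⟨p, hp, hpprime⟩ := hq.exists_mem_prime_of_ne_bot hq0
    refine hK p hpprime (hle.trans ?_)
    haveI : (Ideal.span {p}).IsPrime := (Ideal.span_singleton_prime hpprime.ne_zero).2 hpprime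
    refine le_of_eq (eq_of_le_of_not_lt ((Ideal.span_singleton_le_iff_mem _).2 hp) fun hlt' => ?_).symm
    have h1 := Ideal.height_strict_mono_of_isPrime hlt'
    have h2 := Ideal.height_strict_mono_of_isPrime hlt
    have h3 : (⊥ : Ideal R).height < (Ideal.span {p}).height := Ideal.height_strict_mono_of_isPrime
      (bot_lt_iff_ne_bot.2 (by simpa using hpprime.ne_zero))
    rw [Ideal.height_bot] at h3
    have h4 : (maximalIdeal R).height ≤ 2 := by
      have := IsLocalRing.maximalIdeal_height_eq_ringKrullDim (R := R)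
      exact WithBot.coe_le_coe.1 (this.le.trans hdim)
    have e1 := Order.add_one_le_of_lt h3
    have e2 := Order.add_one_le_of_lt h1
    have e3 := Order.add_one_le_of_lt h2
    rw [zero_add] at e1
    have : (3 : ℕ∞) ≤ 2 := calc
      (3 : ℕ∞) = 1 + 1 + 1 := by norm_num
      _ ≤ (Ideal.span {p}).height + 1 + 1 := by gcongr
      _ ≤ q.height + 1 := by gcongr
      _ ≤ 2 := e3.trans h4
    exact absurd this (by decide)
  obtain ⟨n, hn⟩ := Ideal.exists_pow_le_of_le_radical_of_fg hrad (IsNoetherian.noetherian _)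
  have hmin : ∃ n, ¬ maximalIdeal R ^ n ≤ K ∧ maximalIdeal R ^ (n + 1) ≤ K := by
    classical
    have hex : ∃ n, maximalIdeal R ^ n ≤ K := ⟨n, hn⟩
    rcases Nat.eq_zero_or_eq_succ_pred (Nat.find hex) with h0 | h0
    · have := Nat.find_spec hex
      rw [h0, pow_zero, Ideal.one_eq_top] at this
      exact absurd (top_le_iff.1 this) hne
    · exact ⟨Nat.find hex - 1, Nat.find_min hex (by omega), by
        have := Nat.find_spec hex
        rwa [show Nat.find hex - 1 + 1 = Nat.find hex by omega]⟩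
  obtain ⟨k, hk, hk1⟩ := hmin
  obtain ⟨b, hb, hbK⟩ := SetLike.not_le_iff_exists.1 hk
  refine hbK ?_
  have hgb : g * b ∈ J := h _ fun r hr => by
    rw [hgK, mul_left_comm]
    exact Ideal.mul_mem_mul (Ideal.mem_span_singleton_self g) (hk1 (by rw [pow_succ, mul_comm r]; exact Ideal.mul_mem_mul hb hr))
  rw [hgK, Ideal.mem_span_singleton_mul] at hgb
  obtain ⟨c, hc, hcb⟩ := hgb
  rwa [← mul_left_cancel₀ hg hcb]

end Groth.L05.ResNorm
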