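import Groth.Agent.L05.RatPow.Spread
import Groth.Agent.L05.PtSeq.NormDominate
import Groth.Agent.L05.Point.UnramFlat
import Groth.Agent.L11.REq.FibreExtend
import Groth.Agent.L21.Birational

/-!
# A modification is a local isomorphism at a normal point unless a curve contracts to it
-/

set_option autoImplicit false
set_option linter.style.haveILetI false
set_option maxHeartbeats 1000000
set_option backward.isDefEq.respectTransparency false
set_option backward.isDefEq.respectTransparency.types false

universe u

open CategoryTheory CategoryTheory.Limits AlgebraicGeometry TopologicalSpace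
open Groth.L05.MinDesing (IsBir)

noncomputable section

namespace Groth.L05.ResNorm

variable {W Z : Scheme.{u}} [IsIntegral W] [IsIntegral Z] [AlgebraicGeometry.IsNoetherian Z]

/-- Stalks of a localisation. -/
theorem isIso_stalkMap_fst (h : W ⟶ Z) (z : Z) (t : (pullback h (Z.fromSpecStalk z) : Scheme.{u})) :
    IsIso ((pullback.fst h (Z.fromSpecStalk z)).stalkMap t) := by
  have hsq : IsPullback (pullback.fst h (Z.fromSpecStalk z)) (pullback.snd h (Z.fromSpecStalk z)) h (Z.fromSpecStalk z) :=
    IsPullback.of_hasPullback _ _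
  haveI : IsPreimmersion (pullback.fst h (Z.fromSpecStalk z)) := MorphismProperty.of_isPullback hsq.flip inferInstance
  haveI : Flat (pullback.fst h (Z.fromSpecStalk z)) :=
    MorphismProperty.of_isPullback hsq.flip (Groth.L05.Point.flat_fromSpecStalk z)
  exact Groth.L11.REqHom.isIso_stalkMap_of_flat_preimmersion _ t

/-- Over a normal point, a curve contracts or the modification is a local isomorphism. -/
theorem exists_curve_or_iso (h : W ⟶ Z) [IsProper h] (hW : Pi1.IsNormalScheme W) (hbir : IsBir h)
    (hZ : Pi1.IsNormalScheme Z) (hd : topologicalKrullDim Z ≤ 2) {z : Z} (hz : IsClosed ({z} : Set Z)) :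
    (∃ η : W, h η = z ∧ ¬ IsClosed ({η} : Set W)) ∨ ∃ w : W, h w = z ∧ IsIso (h.stalkMap w) := by
  classical
  refine or_iff_not_imp_left.2 fun hno => ?_
  push Not at hno
  haveI := (hZ z).1
  haveI := (hZ z).2
  haveI : IsLocallyNoetherian W := LocallyOfFiniteType.isLocallyNoetherian h
  haveI : CompactSpace W := QuasiCompact.compactSpace_of_compactSpace h
  haveI : AlgebraicGeometry.IsNoetherian W := ⟨⟩
  obtain ⟨e, hiso⟩ := Groth.L05.PtSeq.birational_data h hbir
  haveI := hiso
  obtain ⟨V, hVi, -, hV⟩ := Groth.Agent.S11555.result h hZ e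
    (ConcreteCategory.bijective_of_isIso (h.stalkMap (genericPoint W)))
  haveI := hVi
  obtain ⟨hi, hp, -, hb, -⟩ := Groth.L05.RatSpread.localModification h hW hbir z
  let g := pullback.fst h (Z.fromSpecStalk z)
  let f : (pullback h (Z.fromSpecStalk z) : Scheme.{u}) ⟶ Spec (Z.presheaf.stalk z) := pullback.snd h (Z.fromSpecStalk z)
  have hsq : IsPullback g f h (Z.fromSpecStalk z) := IsPullback.of_hasPullback _ _
  haveI := hi
  haveI : IsProper f := hp
  haveI : IsPreimmersion g := MorphismProperty.of_isPullback hsq.flip inferInstance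
  have hfz : (h ⁻¹' {z}).Finite := (Groth.L05.PtSeq.finite_isolated (hz.preimage h.continuous)).subset
    fun w hw => ⟨hw, fun v hv hvw => (hvw.mem_closed (hno v hv) rfl).symm⟩
  have hfib : ∀ q, (f ⁻¹' {q}).Finite := fun q => by
    refine Set.Finite.of_finite_image ((?_ : (h ⁻¹' {Z.fromSpecStalk z q}).Finite).subset ?_) g.isEmbedding.injective.injOn
    · by_cases hqz : Z.fromSpecStalk z q = z
      · rw [hqz]; exact hfz
      have hqV : Z.fromSpecStalk z q ∈ V := by
        by_contra hn
        have hqs : Z.fromSpecStalk z q ⤳ z := by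
          have hmem : Z.fromSpecStalk z q ∈ Set.range (Z.fromSpecStalk z) := ⟨q, rfl⟩
          rw [Scheme.range_fromSpecStalk] at hmem
          exact hmem
        exact hqz (Groth.L05.RelMinExists.eq_of_dim_two_le hd (hV _ hn) hqs).symm
      exact Set.Subsingleton.finite fun a ha b hb =>
        Groth.L05.RelMinExists.eq_of_isIso_restrict' h V (by rw [show h a = _ from ha]; exact hqV) (ha.trans hb.symm)
    · rintro _ ⟨t, ht, rfl⟩
      show h (g t) = _
      rw [← Scheme.Hom.comp_apply, hsq.w, Scheme.Hom.comp_apply, show f t = q from ht]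
  haveI : LocallyQuasiFinite f := LocallyQuasiFinite.of_finite_preimage_singleton _ hfib
  haveI : IsFinite f := IsFinite.of_isProper_of_locallyQuasiFinite _
  obtain ⟨ef, hfiso⟩ := Groth.L05.PtSeq.birational_data f hb
  have hR : Pi1.IsNormalScheme (Spec (Z.presheaf.stalk z)) := Groth.L05.NeronFinite.isNormalScheme_spec fun P _ =>
    ⟨inferInstance, isIntegrallyClosed_of_isLocalization _ P.primeCompl P.primeCompl_le_nonZeroDivisors⟩
  haveI : IsIso f := Groth.L21.isIso_of_isFinite_of_normal f hR ef hfiso
  let t := (inv f) (IsLocalRing.closedPoint (Z.presheaf.stalk z))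
  have ht : h (g t) = z := by
    rw [← Scheme.Hom.comp_apply, hsq.w, Scheme.Hom.comp_apply, ← Scheme.Hom.comp_apply (inv f) f, IsIso.inv_hom_id]
    exact Scheme.fromSpecStalk_closedPoint
  refine ⟨g t, ht, ?_⟩
  haveI : IsIso (g.stalkMap t) := isIso_stalkMap_fst h z t
  haveI : Flat (Z.fromSpecStalk z) := Groth.L05.Point.flat_fromSpecStalk z
  haveI : IsIso ((Z.fromSpecStalk z).stalkMap (f t)) :=
    Groth.L11.REqHom.isIso_stalkMap_of_flat_preimmersion _ _
  have key : ∀ (a b : (pullback h (Z.fromSpecStalk z) : Scheme.{u}) ⟶ Z), a = b → IsIso (b.stalkMap t) → IsIso (a.stalkMap t) := by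
    rintro a _ rfl h
    exact h
  haveI : IsIso ((g ≫ h).stalkMap t) := key _ _ hsq.w (by rw [Scheme.Hom.stalkMap_comp]; infer_instance)
  haveI : IsIso (h.stalkMap (g t) ≫ g.stalkMap t) := by rw [← Scheme.Hom.stalkMap_comp]; infer_instance
  exact IsIso.of_isIso_comp_right _ (g.stalkMap t)

end Groth.L05.ResNorm
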