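import Groth.Agent.L05.ResNorm.Alg
import Groth.Agent.L05.RatPow.Exc
import Groth.Agent.L05.PtSeq.Sections
import Groth.Agent.L05.PtSeq.PointIdeal
import Groth.Agent.L05.PtSeq.Birational
import Groth.Agent.L13.GGH1
import Groth.Agent.L19.VanishFibre.Noetherian
import Groth.Agent.L21.RR.Sections
import Groth.Agent.L16.CohClosedPush
import Groth.Agent.L18.AffineApps
import Groth.Agent.L18.IdealModule
import Groth.Agent.L21.RR.Twist

/-!
# The maximal ideal becomes invertible on a resolution of a rational surface singularity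
-/

set_option autoImplicit false
set_option linter.style.haveILetI false
set_option maxHeartbeats 1000000
set_option backward.isDefEq.respectTransparency false
set_option backward.isDefEq.respectTransparency.types false

universe u

open CategoryTheory CategoryTheory.Limits AlgebraicGeometry TopologicalSpace Opposite
open Groth.L05.RatPow (J χ)
open Groth.L05.PtSeq (stI)

noncomputable section

namespace Groth.L05.ResNorm

variable {R : Type u} [CommRing R] [IsDomain R] [IsLocalRing R] [IsNoetherianRing R] [IsIntegrallyClosed R]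
  {W : Scheme.{u}} [IsIntegral W] (f : W ⟶ Spec (CommRingCat.of R)) [IsProper f]

theorem isMaximal_primeIdealOf {Z : Scheme.{u}} {U : Z.Opens} (hU : IsAffineOpen U) {z : Z} (hz : z ∈ U)
    (hc : IsClosed ({z} : Set Z)) : (hU.primeIdealOf ⟨z, hz⟩).asIdeal.IsMaximal := by
  rw [← PrimeSpectrum.isClosed_singleton_iff_isMaximal]
  have h := hc.preimage hU.fromSpec.continuous
  rwa [show hU.fromSpec ⁻¹' {z} = {hU.primeIdealOf ⟨z, hz⟩} from Set.ext fun q =>
    ⟨fun hq => hU.fromSpec.isOpenEmbedding.injective ((show hU.fromSpec q = z from hq).trans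
      (hU.fromSpec_primeIdealOf ⟨z, hz⟩).symm), fun hq => by
      rw [Set.mem_singleton_iff] at hq
      subst hq
      exact hU.fromSpec_primeIdealOf ⟨z, hz⟩⟩] at h

theorem stI_J (w : W) : stI (J f) w = (IsLocalRing.maximalIdeal R).map (χ f w) := by
  obtain ⟨U, hU⟩ := Groth.L05.PtSeq.exists_affine w
  rw [Groth.L05.PtSeq.stI_eq _ U hU]
  have h := Groth.L05.RatPow.map_germ f 1 U w hU
  rw [pow_one, pow_one] at h
  exact h

variable (hdim : ringKrullDim R = 2)
  (hbir : ∃ U : (Spec (CommRingCat.of R)).Opens, (U : Set (Spec (CommRingCat.of R))).Nonempty ∧ IsIso (f ∣_ U))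
  (hH : Subsingleton (Coh.HH W (Coh.structureModule W) 1))

include hdim hbir hH in
theorem subsingleton_H1_idealMod : Subsingleton (Coh.HH W (ClSub.idealMod (J f)) 1) := by
  haveI : IsLocallyNoetherian W := LocallyOfFiniteType.isLocallyNoetherian f
  haveI : CompactSpace W := QuasiCompact.compactSpace_of_compactSpace f
  haveI : W.IsSeparated := ⟨by rw [← terminal.comp_from f]; infer_instance⟩
  haveI : Coh.IsQCoh (ClSub.idealMod (J f)) := by
    haveI : Coh.IsQCoh (Coh.structureModule W) := Groth.L16.CohClosedPush.isCoh_structure.1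
    haveI : Coh.IsQCoh (ClSub.quotMod (J f)) := Groth.L18.AffineCrit.isQCoh_quotMod (J f)
    exact Groth.L18.IdealModule.isQCoh_kernel _
  have hgg : Curv2.IsGloballyGenerated (ClSub.idealMod (J f)) := by
    have h := Groth.L05.RatPow.isGloballyGenerated_idealMod f 1
    rwa [pow_one] at h
  exact Groth.L13.GGH1.subsingleton_H1_of_gg hH (fun K hK => by
    haveI : Coh.IsQCoh K := hK
    exact Groth.L19.VanishFibre.subsingleton_HH_of_fibre_dim_le (R := CommRingCat.of R) f
      (fun s => Groth.L13.ModFibre.topologicalKrullDim_fiber_le_one_spec (le_of_eq hdim) f hbir s) K (by omega)) _ hgg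

include hdim hbir hH in
/-- The functions on the exceptional divisor are constants. -/
theorem exists_const (t : Γ((J f).subscheme, ⊤)) :
    ∃ r : R, (J f).subschemeι.appTop (Coh.toGlobal f r) = t := by
  haveI := Groth.L21.RR.epi_toSubscheme (J f)
  have hS : (ShortComplex.mk (kernel.ι (ClSub.toSubscheme (J f))) (ClSub.toSubscheme (J f))
      (kernel.condition _)).ShortExact :=
    { exact := ShortComplex.exact_of_f_is_kernel _ (kernelIsKernel _)
      mono_f := inferInstance
      epi_g := inferInstance }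
  let y : Coh.HH W (ClSub.quotMod (J f)) 0 := (Groth.L21.RR.e0 _).symm t
  obtain ⟨x, hx⟩ := (Groth.L16.CohLinear.exact_hmap_delta hS 0 y).1
    ((subsingleton_H1_idealMod f hdim hbir hH).elim _ _)
  obtain ⟨r, hr⟩ := (Groth.L05.RatPow.bijective_toGlobal f hbir).2 (Groth.L21.RR.e0 _ x)
  refine ⟨r, ?_⟩
  have h := congrArg (Groth.L21.RR.e0 (ClSub.quotMod (J f))) hx
  rw [Groth.L21.RR.e0_hmap, AddEquiv.apply_symm_apply] at h
  rw [← h]
  exact congrArg ((J f).subschemeι.appTop) hr

include hdim hbir hH in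
/-- A nonzero function on the exceptional divisor vanishes nowhere. -/
theorem isUnit_or_zero (t : Γ((J f).subscheme, ⊤)) : t = 0 ∨ IsUnit t := by
  obtain ⟨r, rfl⟩ := exists_const f hdim hbir hH t
  by_cases hr : IsUnit r
  · exact Or.inr ((hr.map (Coh.toGlobal f)).map (J f).subschemeι.appTop.hom)
  · refine Or.inl (TopCat.Presheaf.section_ext (J f).subscheme.sheaf ⊤ _ 0 fun z hz => ?_)
    show (J f).subscheme.presheaf.germ ⊤ z hz _ = (J f).subscheme.presheaf.germ ⊤ z hz 0
    rw [map_zero]
    refine (Scheme.Hom.germ_stalkMap_apply (J f).subschemeι ⊤ z trivial (Coh.toGlobal f r)).symm.trans ?_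
    refine (congrArg ((J f).subschemeι.stalkMap z) ?_).trans
      ((Groth.L05.PtSeq.stalkQuotEquiv_mk (J f) z (χ f ((J f).subschemeι z) r)).symm.trans ?_)
    · rfl
    · rw [Ideal.Quotient.eq_zero_iff_mem.2 (by rw [stI_J]; exact Ideal.mem_map_of_mem _ hr), map_zero]

include hdim hbir hH in
/-- Lipman: the maximal ideal generates a locally principal ideal. -/
theorem exists_generator (hreg : ∀ w : W, IsRegularLocalRing (W.presheaf.stalk w))
    (hcurve : ∃ v : W, f v = IsLocalRing.closedPoint R ∧ ¬ IsClosed ({v} : Set W)) (w : W) :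
    ∃ g, g ≠ 0 ∧ (IsLocalRing.maximalIdeal R).map (χ f w) = Ideal.span {g} := by
  classical
  haveI := hreg w
  haveI : IsLocallyNoetherian W := LocallyOfFiniteType.isLocallyNoetherian f
  obtain ⟨v, hv, hvc⟩ := hcurve
  obtain ⟨U₀, hU₀, hiso⟩ := id hbir
  haveI := hiso
  obtain ⟨ef, -⟩ := Groth.L05.PtSeq.birational_data f hbir
  have hne : stI (J f) w ≠ ⊥ := by
    intro h0
    obtain ⟨a, ha, ha0⟩ := Submodule.exists_mem_ne_zero_of_ne_bot (p := IsLocalRing.maximalIdeal R) fun hm => by
      rw [ringKrullDim_eq_zero_of_isField ((IsLocalRing.isField_iff_maximalIdeal_eq).2 hm)] at hdim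
      exact absurd hdim (by decide)
    rw [stI_J] at h0
    have h1 : χ f w a = 0 := (Submodule.mem_bot _).1 (h0 ▸ Ideal.mem_map_of_mem _ ha)
    refine ha0 ((Groth.L05.RatPow.bijective_toGlobal f hbir).1 ?_)
    rw [map_zero]
    haveI : Nonempty (⊤ : W.Opens) := ⟨⟨w, trivial⟩⟩
    exact germ_injective_of_isIntegral W w (U := ⊤) trivial (h1.trans (map_zero _).symm)
  have hd2 : ringKrullDim (W.presheaf.stalk w) ≤ 2 :=
    (Groth.L13.ModFibre.ringKrullDim_stalk_le f U₀ ⟨genericPoint W, by
      rw [ef]; exact Groth.L05.MinDesing.genericPoint_mem hU₀⟩ w).trans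
      ((Groth.L15.CohFlat.ringKrullDim_stalk_le (f w)).trans
        ((PrimeSpectrum.topologicalKrullDim_eq_ringKrullDim R).trans hdim).le)
  by_cases hwc : IsClosed ({w} : Set W)
  swap
  · -- a point of codimension at most one
    haveI := Groth.L01.isDomain_of_regular (W.presheaf.stalk w)
    obtain ⟨p, hp, hpw⟩ : ∃ p, w ⤳ p ∧ p ≠ w := by
      by_contra h
      push Not at h
      exact hwc (closure_subset_iff_isClosed.1 fun p hp => h p (specializes_iff_mem_closure.2 hp))
    have hdW : topologicalKrullDim W ≤ 2 := Groth.L05.PtSeq.dim_le_of_stalks fun z =>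
      (Groth.L13.ModFibre.ringKrullDim_stalk_le f U₀ ⟨genericPoint W, by
        rw [ef]; exact Groth.L05.MinDesing.genericPoint_mem hU₀⟩ z).trans
        ((Groth.L15.CohFlat.ringKrullDim_stalk_le (f z)).trans
          ((PrimeSpectrum.topologicalKrullDim_eq_ringKrullDim R).trans hdim).le)
    have h2 := (Groth.L03.BlowPt.Factor.dim_add_one_le hp hpw.symm).trans
      ((Groth.L13.ModFibre.ringKrullDim_stalk_le_topologicalKrullDim p).trans hdW)
    have h3 : ringKrullDim (W.presheaf.stalk w) ≤ 1 := by
      generalize ringKrullDim (W.presheaf.stalk w) = d at h2 ⊢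
      cases d with
      | bot => exact bot_le
      | coe d =>
        cases d with
        | top => exact absurd h2 (by decide)
        | coe d =>
          have h3 : d + 1 ≤ 2 := ENat.coe_le_coe.1 (WithBot.coe_le_coe.1 h2)
          have h4 : d ≤ 1 := by omega
          exact_mod_cast h4
    haveI : IsPrincipalIdealRing (W.presheaf.stalk w) := by
      refine ((tfae_of_isNoetherianRing_of_isLocalRing_of_isDomain (W.presheaf.stalk w)).out 0 5).2 ?_
      have h := (IsRegularLocalRing.iff_finrank_cotangentSpace (R := W.presheaf.stalk w)).1 inferInstance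
      exact_mod_cast h.le.trans h3
    obtain ⟨g, hg⟩ := IsPrincipalIdealRing.principal (stI (J f) w)
    refine ⟨g, fun h0 => hne ?_, by rw [← stI_J]; exact hg⟩
    rw [hg, h0]; exact Submodule.span_zero_singleton (R := W.presheaf.stalk w)
  rw [← stI_J]
  refine isPrincipal_of_saturated hd2 _ hne fun a ha => ?_
  by_contra haJ
  -- a socle element of the exceptional divisor at `w`
  have hwJ : w ∈ ((J f).support : Set W) := by
    by_contra hw
    exact haJ (by rw [(Groth.L05.PtSeq.stI_eq_top_iff _ _).2 hw]; trivial)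
  obtain ⟨e, rfl⟩ : w ∈ Set.range (J f).subschemeι := by rw [(J f).range_subschemeι]; exact hwJ
  let E := (J f).subscheme
  haveI : IsLocallyNoetherian E := LocallyOfFiniteType.isLocallyNoetherian (J f).subschemeι
  let ā : E.presheaf.stalk e := (J f).subschemeι.stalkMap e a
  have hā : ā ≠ 0 := fun h0 => haJ (Ideal.Quotient.eq_zero_iff_mem.1
    ((Groth.L05.PtSeq.stalkQuotEquiv (J f) e).injective
      ((Groth.L05.PtSeq.stalkQuotEquiv_mk (J f) e a).trans (h0.trans (map_zero _).symm))))
  have hsoc : ∀ r ∈ IsLocalRing.maximalIdeal (E.presheaf.stalk e), r * ā = 0 := fun r hr => by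
    obtain ⟨r, rfl⟩ := (J f).subschemeι.stalkMap_surjective e r
    have hr' : r ∈ IsLocalRing.maximalIdeal _ := fun hu => hr (hu.map _)
    show (J f).subschemeι.stalkMap e r * (J f).subschemeι.stalkMap e a = 0
    rw [← map_mul, ← Groth.L05.PtSeq.stalkQuotEquiv_mk, Ideal.Quotient.eq_zero_iff_mem.2 (ha r hr'), map_zero]
  have hec : IsClosed ({e} : Set E) := by
    have h := hwc.preimage (J f).subschemeι.continuous
    rwa [show (J f).subschemeι ⁻¹' {(J f).subschemeι e} = {e} from Set.ext fun z =>
      ⟨fun h => (J f).subschemeι.isClosedEmbedding.injective h, fun h => congrArg _ h⟩] at h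
  obtain ⟨t, htw, hto⟩ : ∃ t : Γ(E, ⊤), E.presheaf.germ ⊤ e trivial t ≠ 0 ∧
      ∀ z, z ≠ e → E.presheaf.germ ⊤ z trivial t = 0 := by
    obtain ⟨V, heV, s, hs⟩ := E.presheaf.germ_exist ā
    obtain ⟨U, hU, heU, hUV⟩ := exists_isAffineOpen_mem_and_subset (x := e) (U := V) heV
    let s' : Γ(E, U) := E.presheaf.map (homOfLE (show U ≤ V from hUV)).op s
    have hs' : E.presheaf.germ U e heU s' = ā := (TopCat.Presheaf.germ_res_apply _ _ _ _ _).trans hs
    letI : Algebra Γ(E, U) (E.presheaf.stalk e) := (E.presheaf.germ U e heU).hom.toAlgebra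
    haveI : IsLocalization.AtPrime (E.presheaf.stalk e) (hU.primeIdealOf ⟨e, heU⟩).asIdeal :=
      hU.isLocalization_stalk ⟨e, heU⟩
    haveI : IsNoetherianRing Γ(E, U) := IsLocallyNoetherian.component_noetherian ⟨U, hU⟩
    let p := (hU.primeIdealOf ⟨e, heU⟩).asIdeal
    obtain ⟨u, hup, hu⟩ : ∃ u, u ∉ p ∧ ∀ r ∈ p, u * (r * s') = 0 := by
      obtain ⟨S, hS⟩ := IsNoetherian.noetherian p
      have hex : ∀ r ∈ S, ∃ u : p.primeCompl, (u : Γ(E, U)) * (r * s') = 0 := fun r hr => by
        refine (IsLocalization.map_eq_zero_iff p.primeCompl (E.presheaf.stalk e) _).1 ?_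
        rw [map_mul]
        show E.presheaf.germ U e heU r * E.presheaf.germ U e heU s' = 0
        rw [hs']
        refine hsoc _ ?_
        show algebraMap Γ(E, U) (E.presheaf.stalk e) r ∈ _
        exact (IsLocalization.AtPrime.to_map_mem_maximal_iff (E.presheaf.stalk e) p r).2
          (hS ▸ Submodule.subset_span hr)
      choose u hu using hex
      refine ⟨∏ r ∈ S.attach, (u r.1 r.2 : Γ(E, U)), fun hmem => ?_, fun r hr => ?_⟩
      · obtain ⟨r, -, hr⟩ := Ideal.IsPrime.prod_mem_iff (p := p).1 hmem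
        exact (u r.1 r.2).2 hr
      · have hr' : r ∈ Submodule.span Γ(E, U) (S : Set Γ(E, U)) := hS.ge hr
        clear hr
        induction hr' using Submodule.span_induction with
        | mem x hx =>
          rw [← Finset.mul_prod_erase _ _ (Finset.mem_attach S ⟨x, hx⟩),
            mul_comm (u x hx : Γ(E, U)), mul_assoc, hu x hx, mul_zero]
        | zero => rw [zero_mul, mul_zero]
        | add x y _ _ hx hy => rw [add_mul, mul_add, hx, hy, add_zero]
        | smul c x _ hx => rw [smul_eq_mul, mul_assoc, mul_left_comm, hx, mul_zero]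
    let D := E.basicOpen u
    let O' : E.Opens := ⟨{e}ᶜ, hec.isOpen_compl⟩
    have heD : e ∈ D := by
      rw [E.mem_basicOpen u e heU]
      exact IsLocalization.map_units (E.presheaf.stalk e) (⟨u, hup⟩ : p.primeCompl)
    let sD : Γ(E, D) := E.presheaf.map (homOfLE (E.basicOpen_le u)).op s'
    have hzero : ∀ z (hz : z ∈ D), z ≠ e → E.presheaf.germ D z hz sD = 0 := fun z hz hze => by
      have hzU : z ∈ U := E.basicOpen_le u hz
      rw [TopCat.Presheaf.germ_res_apply]
      let q := (hU.primeIdealOf ⟨z, hzU⟩).asIdeal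
      obtain ⟨r, hrp, hrq⟩ : ∃ r ∈ p, r ∉ q := by
        refine SetLike.not_le_iff_exists.1 fun hle => hze ?_
        have hmax := Groth.L05.ResNorm.isMaximal_primeIdealOf hU heU hec
        have h := congrArg hU.fromSpec (PrimeSpectrum.ext (hmax.eq_of_le (hU.primeIdealOf ⟨z, hzU⟩).2.ne_top hle) :
          hU.primeIdealOf ⟨e, heU⟩ = hU.primeIdealOf ⟨z, hzU⟩)
        rw [hU.fromSpec_primeIdealOf, hU.fromSpec_primeIdealOf] at h
        exact h.symm
      have hur : IsUnit (E.presheaf.germ U z hzU (u * r)) := by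
        rw [map_mul]
        refine ((E.mem_basicOpen u z hzU).1 hz).mul ?_
        letI : Algebra Γ(E, U) (E.presheaf.stalk z) := (E.presheaf.germ U z hzU).hom.toAlgebra
        haveI : IsLocalization.AtPrime (E.presheaf.stalk z) q := hU.isLocalization_stalk ⟨z, hzU⟩
        exact IsLocalization.map_units (E.presheaf.stalk z) (⟨r, hrq⟩ : q.primeCompl)
      refine hur.mul_right_eq_zero.1 ?_
      rw [← map_mul, mul_assoc, hu r hrp, map_zero]
    let O : Bool → E.Opens := fun b => cond b D O'
    let sf : ∀ b, Γ(E, O b) := fun b => match b with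
      | true => sD
      | false => 0
    have hcompat : TopCat.Presheaf.IsCompatible E.presheaf O sf := fun i j => by
      refine TopCat.Presheaf.section_ext E.sheaf _ _ _ fun z hz => ?_
      show E.presheaf.germ _ z hz _ = E.presheaf.germ _ z hz _
      rw [TopCat.Presheaf.germ_res_apply, TopCat.Presheaf.germ_res_apply]
      cases i <;> cases j
      · rfl
      · exact (map_zero _).trans (hzero z hz.2 hz.1).symm
      · exact (hzero z hz.1 hz.2).trans (map_zero _).symm
      · rfl
    obtain ⟨t, ht, -⟩ := TopCat.Sheaf.existsUnique_gluing' E.sheaf O ⊤ (fun b => homOfLE le_top)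
      (fun z _ => Opens.mem_iSup.2 (if hze : z = e then ⟨true, hze ▸ heD⟩ else ⟨false, hze⟩)) sf hcompat
    refine ⟨t, fun h0 => hā ?_, fun z hz => ?_⟩
    · rw [← TopCat.Presheaf.germ_res_apply E.presheaf (homOfLE (le_top : D ≤ ⊤)) e heD t] at h0
      rw [← hs', ← TopCat.Presheaf.germ_res_apply E.presheaf (homOfLE (E.basicOpen_le u)) e heD s']
      exact (congrArg (E.presheaf.germ D e heD) (ht true).symm).trans h0
    · rw [← TopCat.Presheaf.germ_res_apply E.presheaf (homOfLE (le_top : O' ≤ ⊤)) z hz t]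
      exact (congrArg (E.presheaf.germ O' z hz) (ht false)).trans (map_zero _)
  have hu : IsUnit t := (isUnit_or_zero f hdim hbir hH t).resolve_left fun h => htw (by rw [h, map_zero])
  obtain ⟨e', he'⟩ : v ∈ Set.range (J f).subschemeι := by
    rw [(J f).range_subschemeι, Groth.L05.RatPow.support_J]; exact hv
  refine (hu.map (E.presheaf.germ ⊤ e' trivial).hom).ne_zero (hto e' fun h => hvc ?_)
  rw [← he', h]; exact hwc

end Groth.L05.ResNorm
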