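import Groth.Agent.L05.ResNorm.Point
import Groth.Agent.L05.PtSeq.NormDominate
import Groth.Agent.L05.PtSeq.Rational
import Groth.Agent.L05.PtSeq.Surface
import Groth.Agent.L05.PtSeq.NormBlow
import Groth.Agent.S7321
import Groth.Agent.S9690

/-!
# Surfaces with a resolution are resolved by normalized point blow-ups
-/

set_option autoImplicit false
set_option linter.style.haveILetI false
set_option maxHeartbeats 1000000
set_option backward.isDefEq.respectTransparency false
set_option backward.isDefEq.respectTransparency.types false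

universe u

open CategoryTheory CategoryTheory.Limits AlgebraicGeometry TopologicalSpace
open Groth.L03.BlowPt (ptI)
open Groth.L05.PtSeq
open Groth.L05.MinDesing (IsBir isBir_comp)
open Groth.L22
open Resolve

noncomputable section

namespace Groth.L05.ResNorm

variable {S X Z W : Scheme.{u}}

/-- The first factor of a birational morphism through a birational one is birational. -/
theorem bir_left [IsIntegral S] [IsIntegral W] [IsIntegral Z] (h : W ⟶ Z) (g : Z ⟶ S) (hg : IsBir g)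
    (hhg : IsBir (h ≫ g)) : IsBir h := by
  obtain ⟨V, hV, hiso⟩ := id hg
  haveI := hiso
  obtain ⟨Vc, hVc, hVciso⟩ := id hhg
  haveI := hVciso
  obtain ⟨eg, -⟩ := birational_data g hg
  refine ⟨g ⁻¹ᵁ (Vc ⊓ V), ⟨genericPoint Z, ?_⟩, ?_⟩
  · show g (genericPoint Z) ∈ Vc ⊓ V
    rw [eg]; exact ⟨Groth.L05.MinDesing.genericPoint_mem hVc, Groth.L05.MinDesing.genericPoint_mem hV⟩
  · haveI : IsIso ((h ≫ g) ∣_ (Vc ⊓ V)) := Groth.L05.MinDesing.isIso_restrict_le (h ≫ g) inf_le_left
    haveI : IsIso (g ∣_ (Vc ⊓ V)) := Groth.L05.MinDesing.isIso_restrict_le g inf_le_right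
    haveI : IsIso ((h ∣_ g ⁻¹ᵁ (Vc ⊓ V)) ≫ g ∣_ (Vc ⊓ V)) := by
      rw [← morphismRestrict_comp]; infer_instance
    exact IsIso.of_isIso_comp_right _ (g ∣_ (Vc ⊓ V))

/-- A regular surface over `X` dominates every modification of the base. -/
theorem exists_regular_dominate [IsIntegral S] (hX : IsRegSurf X) (hXgen : ∀ [IsIntegral X], ¬ IsClosed ({genericPoint X} : Set X))
    (f : X ⟶ S) [IsProper f] (hf : IsBir f) [IsIntegral Z] (g : Z ⟶ S) [IsProper g] (hg : IsBir g) :
    ∃ (W : Scheme.{u}) (_ : IsIntegral W) (b : W ⟶ Z) (ρ : W ⟶ X), IsRegSurf W ∧ IsProper b ∧ IsBir b ∧ IsProper ρ ∧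
      IsBir ρ ∧ IsDominant b ∧ b ≫ g = ρ ≫ f := by
  haveI := hX.integral
  haveI := hX.noeth
  obtain ⟨Vf, hVf, hisof⟩ := id hf
  obtain ⟨Vg, hVg, hisog⟩ := id hg
  haveI := hisof; haveI := hisog
  obtain ⟨ef, -⟩ := birational_data f hf
  obtain ⟨eg, -⟩ := birational_data g hg
  let V := Vf ⊓ Vg
  haveI : IsIso (g ∣_ V) := Groth.L05.MinDesing.isIso_restrict_le g inf_le_right
  have hU : ((f ⁻¹ᵁ V : X.Opens) : Set X).Nonempty := ⟨genericPoint X, by
    show f (genericPoint X) ∈ V
    rw [ef]; exact ⟨Groth.L05.MinDesing.genericPoint_mem hVf, Groth.L05.MinDesing.genericPoint_mem hVg⟩⟩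
  obtain ⟨W, ρ, b, hρ, hcomm, -⟩ := exists_resolve hX f g (f ⁻¹ᵁ V) hU
    ((f ∣_ V) ≫ inv (g ∣_ V) ≫ (g ⁻¹ᵁ V).ι) (by
      rw [Category.assoc, Category.assoc, ← morphismRestrict_ι, IsIso.inv_hom_id_assoc, morphismRestrict_ι])
  obtain ⟨hWs, -, hWi, -, -⟩ := seq_surface (contractionSeq_ptSeq hρ) hX hXgen
  haveI := hWi
  obtain ⟨-, -, hρp, hρb, -⟩ := Groth.Agent.S7372.seq_data (contractionSeq_ptSeq hρ) hX.noeth hXgen
  haveI := hρp
  haveI : IsProper (b ≫ g) := by rw [hcomm]; infer_instance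
  haveI : IsProper b := IsProper.of_comp b g
  have hbb : IsBir b := bir_left b g hg (by rw [hcomm]; exact isBir_comp ρ f hρb hf)
  obtain ⟨eb, -⟩ := birational_data b hbb
  refine ⟨W, hWi, b, ρ, hWs, inferInstance, hbb, hρp, hρb, ⟨?_⟩, hcomm⟩
  refine dense_iff_closure_eq.mpr (Set.eq_univ_of_univ_subset ?_)
  rw [← (genericPoint_spec Z).def]
  exact closure_mono (Set.singleton_subset_iff.mpr ⟨_, eb⟩)

theorem finNorm_of_resolution [IsIntegral S] [AlgebraicGeometry.IsNoetherian S] (hX : IsRegSurf X)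
    (hXgen : ∀ [IsIntegral X], ¬ IsClosed ({genericPoint X} : Set X)) (f : X ⟶ S) [IsProper f] (hf : IsBir f) :
    FinNorm S := by
  intro Z _ _ _ g hgp hgb
  haveI := hgp
  obtain ⟨W, hWi, b, ρ, hWs, hbp, -, -, -, hbd, -⟩ := exists_regular_dominate hX @hXgen f hf g hgb
  haveI := hWi; haveI := hbp; haveI := hbd
  haveI : IsLocallyNoetherian Z := LocallyOfFiniteType.isLocallyNoetherian g
  haveI : CompactSpace Z := QuasiCompact.compactSpace_of_compactSpace g
  haveI : AlgebraicGeometry.IsNoetherian Z := ⟨⟩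
  exact Groth.Agent.S7321.isFinite_normalizationι_of_alteration Z b hWs.reg

/-- One normalized blow-up of a singular point, with the lift of a resolution. -/
theorem exists_step_lift [IsIntegral S] (hS : FinNorm S) [IsIntegral Z] {g : Z ⟶ S} (hg : NModif g)
    (hd : topologicalKrullDim Z ≤ 2) (hX : IsRegSurf X) (q : Z ⟶ X) [IsIntegral W]
    (hreg : ∀ w : W, IsRegularLocalRing (W.presheaf.stalk w)) (h : W ⟶ Z) [IsProper h] (hhb : IsBir h)
    (ρ : W ⟶ X) [IsProper ρ] (hρ : h ≫ q = ρ) (hρb : IsBir ρ) {z : Z} (hz : IsClosed ({z} : Set Z))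
    (hsing : ¬ IsRegularLocalRing (Z.presheaf.stalk z)) :
    ∃ (N : Scheme.{u}) (π : N ⟶ Z) (h₁ : W ⟶ N), NModif (π ≫ g) ∧ IsProper π ∧ IsBir π ∧ h₁ ≫ π = h ∧
      ∀ w : N, π w = z → ∃ t, stI ((ptI hz).comap π) w = Ideal.span {t} := by
  haveI := hg.noeth; haveI := hg.proper
  obtain ⟨Z', b, hb⟩ := Groth.L13.BU.exists_isBlowUp (ptI hz)
  obtain ⟨hi', hN', hbp, hbb, -, hgen'⟩ := Groth.Agent.S7372.step_data hg.gen b hz hb
  haveI := hi'; haveI := hN'; haveI := hbp
  haveI := quasiCompact_fromSpecStalk_generic Z'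
  haveI : IsFinite (Curv2.normalizationι Z') := hS Z' (b ≫ g) inferInstance (isBir_comp b g hbb hg.bir)
  obtain ⟨hiN, hnorm, -, hνgen, -⟩ := Groth.Agent.S2351.result Z'
  haveI := hiN
  haveI : IsLocallyNoetherian (Curv2.normalization Z') := LocallyOfFiniteType.isLocallyNoetherian (Curv2.normalizationι Z')
  haveI : CompactSpace (Curv2.normalization Z') := QuasiCompact.compactSpace_of_compactSpace (Curv2.normalizationι Z')
  obtain ⟨V, hV, hiso⟩ := Groth.L22.BM.exists_isIso_normalizationι Z'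
  have hνb : IsBir (Curv2.normalizationι Z') := ⟨V, hV, hiso⟩
  haveI : IsLocallyNoetherian W := LocallyOfFiniteType.isLocallyNoetherian h
  -- the lift
  have hcart : BlowUp.IsEffCartierIdeal ((ptI hz).comap h) := Div.isEffCartier_of_stalks _ fun w hw U hwU => by
    rw [Scheme.IdealSheafData.support_comap] at hw
    have hwz : h w = z := by
      have h1 : h w ∈ ((ptI hz).support : Set Z) := hw
      rwa [Groth.Agent.S7372.support_ptI] at h1
    obtain ⟨a, ha, hI⟩ := exists_generator_point hX hreg h hhb hg.normal hd q ρ hρ hρb hz hsing w hwz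
    exact ⟨a, (stI_eq _ U hwU).symm.trans hI, mem_nonZeroDivisors_of_ne_zero ha⟩
  obtain ⟨k, hk, -⟩ := hb.2 W h hcart
  have hkb : IsBir k := bir_left k b hbb (by rw [hk]; exact hhb)
  have hWn : Pi1.IsNormalScheme W := fun y => by
    haveI := hreg y
    haveI := Groth.L01.isDomain_of_regular (W.presheaf.stalk y)
    exact ⟨inferInstance, Groth.L03.RegularNormal.isIntegrallyClosed _⟩
  obtain ⟨h₁, hh₁, -⟩ := Groth.Agent.S9690.result Z' k hWn fun y hy => by
    rw [irreducibleComponents_eq_singleton, Set.mem_singleton_iff] at hy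
    rw [IsGenericPoint.eq (show IsGenericPoint y Set.univ from hy) (genericPoint_spec W)]
    exact (birational_data k hkb).1
  refine ⟨Curv2.normalization Z', Curv2.normalizationι Z' ≫ b, h₁,
    ⟨?_, hiN, ⟨⟩, inferInstance, ?_, hnorm, ?_⟩, inferInstance, isBir_comp _ b hνb hbb,
    by rw [reassoc_of% hh₁, hk], fun w _ => ?_⟩
  · rw [Category.assoc]
    exact IsNormPtBlowupSeq.step b g z hz hb hg.seq
  · rw [Category.assoc]
    exact isBir_comp _ (b ≫ g) hνb (isBir_comp b g hbb hg.bir)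
  · intro _
    exact gen_not_closed_of_bir (Curv2.normalizationι Z') hνb hgen'
  · obtain ⟨t, -, ht⟩ := stI_isPrincipal hb.1 (Curv2.normalizationι Z' w)
    refine ⟨(Curv2.normalizationι Z').stalkMap w t, ?_⟩
    rw [Scheme.IdealSheafData.comap_comp, stI_comap, ht, Ideal.map_span, Set.image_singleton]

theorem dim_le_of_modif [IsIntegral S] [AlgebraicGeometry.IsNoetherian S] (hd : topologicalKrullDim S ≤ 2)
    [IsIntegral Z] (g : Z ⟶ S) [IsProper g] (hg : IsBir g) : topologicalKrullDim Z ≤ 2 := by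
  obtain ⟨V, hV, hiso⟩ := id hg
  haveI := hiso
  obtain ⟨eg, -⟩ := birational_data g hg
  exact dim_le_of_stalks fun y =>
    (Groth.L13.ModFibre.ringKrullDim_stalk_le g V ⟨genericPoint Z, by
      rw [eg]; exact Groth.L05.MinDesing.genericPoint_mem hV⟩ y).trans
      ((Groth.L15.CohFlat.ringKrullDim_stalk_le (g y)).trans hd)

theorem exists_regular_of_lift [IsIntegral S] [AlgebraicGeometry.IsNoetherian S] (hS : FinNorm S)
    (hd : topologicalKrullDim S ≤ 2) (hX : IsRegSurf X) [IsIntegral W] [AlgebraicGeometry.IsNoetherian W]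
    (hdW : topologicalKrullDim W ≤ 2) (hreg : ∀ w : W, IsRegularLocalRing (W.presheaf.stalk w))
    (ρ : W ⟶ X) [IsProper ρ] (hρb : IsBir ρ) :
    ∀ (n : ℕ) {Z : Scheme.{u}} {g : Z ⟶ S} (_ : NModif g) [IsIntegral Z] (q : Z ⟶ X) (h : W ⟶ Z) [IsProper h]
      (_ : IsBir h) (_ : h ≫ q = ρ), (contrCurves h).ncard = n →
      ∃ (Xn : Scheme.{u}) (g' : Xn ⟶ S), NModif g' ∧ ∀ x : Xn, IsRegularLocalRing (Xn.presheaf.stalk x) := by
  classical
  intro n
  induction n using Nat.strong_induction_on with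
  | _ n ih =>
  intro Z g hg _ q h _ hhb hρ hn
  haveI := hg.noeth; haveI := hg.proper
  have hdZ := dim_le_of_modif hd g hg.bir
  by_cases hall : ∀ z : Z, IsClosed ({z} : Set Z) → IsRegularLocalRing (Z.presheaf.stalk z)
  · refine ⟨Z, g, hg, fun z => ?_⟩
    by_cases hz : IsClosed ({z} : Set Z)
    · exact hall z hz
    · haveI := valuation_stalk hdZ hg.normal hz
      haveI := (hg.normal z).1
      haveI : IsPrincipalIdealRing (Z.presheaf.stalk z) :=
        ((tfae_of_isNoetherianRing_of_isLocalRing_of_isDomain (Z.presheaf.stalk z)).out 1 0).1 (inferInstance : ValuationRing (Z.presheaf.stalk z))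
      infer_instance
  push Not at hall
  obtain ⟨z, hz, hsing⟩ := hall
  obtain ⟨N, π, h₁, hN, hπp, hπb, hh₁, hprin⟩ := exists_step_lift hS hg hdZ hX q hreg h hhb ρ hρ hρb hz hsing
  haveI := hN.integral; haveI := hπp; haveI := hN.noeth
  haveI : IsProper (h₁ ≫ π) := by rw [hh₁]; infer_instance
  haveI : IsProper h₁ := IsProper.of_comp h₁ π
  have hh₁b : IsBir h₁ := bir_left h₁ π hπb (by rw [hh₁]; exact hhb)
  have hfin : (contrCurves h).Finite := finite_contrCurves hdW h hhb hg.gen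
  have hsub : contrCurves h₁ ⊆ contrCurves h := fun η hη => ⟨hη.1, by
    rw [← hh₁, Scheme.Hom.comp_apply, ← Set.image_singleton]
    exact π.isClosedMap _ hη.2⟩
  obtain ⟨ν, hν, hνc⟩ : ∃ ν : N, π ν = z ∧ ¬ IsClosed ({ν} : Set N) := by
    rcases exists_curve_or_iso π hN.normal hπb hg.normal hdZ hz with h' | ⟨w, hw, hiso⟩
    · exact h'
    exfalso
    haveI := hiso
    obtain ⟨t, ht⟩ := hprin w hw
    rw [stI_comap, stI_ptI_eq hz _ hw] at ht
    subst hw
    rw [TopCat.Presheaf.stalkSpecializes_refl] at ht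
    change ((IsLocalRing.maximalIdeal _).map (RingHom.id _)).map _ = _ at ht
    rw [Ideal.map_id] at ht
    haveI := (hg.normal (π w)).1
    refine hsing (Groth.Agent.S7372.isRegularLocalRing_of_principal ?_)
    let e := (asIso (π.stalkMap w)).commRingCatIsoToRingEquiv
    refine ⟨e.symm t, ?_⟩
    have h1 : IsLocalRing.maximalIdeal (Z.presheaf.stalk (π w)) =
        ((IsLocalRing.maximalIdeal (Z.presheaf.stalk (π w))).map (π.stalkMap w).hom).comap (π.stalkMap w).hom :=
      (Ideal.comap_map_of_bijective _ (ConcreteCategory.bijective_of_isIso (π.stalkMap w))).symm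
    rw [h1, ht]
    ext a
    rw [Ideal.mem_comap, Ideal.submodule_span_eq, Ideal.mem_span_singleton, Ideal.mem_span_singleton]
    exact ⟨fun ⟨c, hc⟩ => ⟨e.symm c, e.injective (hc.trans (by
        rw [map_mul, e.apply_symm_apply, e.apply_symm_apply]))⟩,
      fun ⟨c, hc⟩ => ⟨e c, by
        show e a = _
        rw [hc, map_mul, e.apply_symm_apply]⟩⟩
  obtain ⟨η, hη⟩ : ν ∈ Set.range h₁ := by
    obtain ⟨e₁, -⟩ := birational_data h₁ hh₁b
    have hcl := h₁.isClosedMap _ isClosed_univ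
    rw [Set.image_univ] at hcl
    exact ((genericPoint_spec N).specializes trivial).mem_closed hcl ⟨_, e₁⟩
  have hlt : (contrCurves h₁).ncard < n := by
    rw [← hn]
    refine Set.ncard_lt_ncard ⟨hsub, fun hsup => ?_⟩ hfin
    have hmem : η ∈ contrCurves h := ⟨fun hc => hνc (by
        rw [← hη, ← Set.image_singleton]; exact h₁.isClosedMap _ hc), by
      rw [← hh₁, Scheme.Hom.comp_apply, hη, hν]; exact hz⟩
    exact hνc (hη ▸ (hsup hmem).2)
  exact ih _ hlt hN (π ≫ q) h₁ hh₁b (by rw [reassoc_of% hh₁, hρ]) rfl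

/-- A normal surface with a resolution is resolved by normalized point blow-ups. -/
theorem exists_regular_seq [IsIntegral S] [AlgebraicGeometry.IsNoetherian S] (hSn : Pi1.IsNormalScheme S)
    (hd : topologicalKrullDim S ≤ 2) (hgen : ¬ IsClosed ({genericPoint S} : Set S))
    [IsIntegral X] (f : X ⟶ S) [IsProper f] (hreg : ∀ x : X, IsRegularLocalRing (X.presheaf.stalk x)) (hf : IsBir f) :
    ∃ (Xn : Scheme.{u}) (g : Xn ⟶ S), NModif g ∧ ∀ x : Xn, IsRegularLocalRing (Xn.presheaf.stalk x) := by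
  haveI : IsLocallyNoetherian X := LocallyOfFiniteType.isLocallyNoetherian f
  haveI : CompactSpace X := QuasiCompact.compactSpace_of_compactSpace f
  haveI : AlgebraicGeometry.IsNoetherian X := ⟨⟩
  have hX : IsRegSurf X := ⟨inferInstance, inferInstance, hreg, dim_le_of_modif hd f hf⟩
  have hXgen : ∀ [IsIntegral X], ¬ IsClosed ({genericPoint X} : Set X) := fun {_} => gen_not_closed_of_bir f hf hgen
  have hFin := finNorm_of_resolution hX @hXgen f hf
  obtain ⟨Z, g, hg, q, hq⟩ := exists_dominate_norm hSn hd hgen hFin hX.normal f hf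
  haveI := hg.integral; haveI := hg.noeth; haveI := hg.proper
  haveI : IsProper (q ≫ f) := by rw [hq]; infer_instance
  haveI : IsProper q := IsProper.of_comp q f
  have hqb : IsBir q := bir_left q f hf (by rw [hq]; exact hg.bir)
  obtain ⟨W, hWi, h, ρ, hWs, hhp, hhb, hρp, hρb, -, hcomm⟩ :=
    exists_regular_dominate hX @hXgen (𝟙 X) ⟨⊤, ⟨genericPoint X, trivial⟩, inferInstance⟩ q hqb
  rw [Category.comp_id] at hcomm
  haveI := hWi; haveI := hWs.noeth; haveI := hhp; haveI := hρp
  exact exists_regular_of_lift hFin hd hX hWs.dim hWs.reg ρ hρb _ hg q h hhb hcomm rfl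

end Groth.L05.ResNorm
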