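import Groth.Agent.L05.ResNorm.Lipman
import Groth.Agent.L05.ResNorm.R1
import Groth.Agent.L05.ResNorm.Curve
import Groth.Agent.L06.NormalAscent

/-!
# On a resolution over a regular surface singular points have invertible ideals
-/

set_option autoImplicit false
set_option linter.style.haveILetI false
set_option maxHeartbeats 1000000
set_option backward.isDefEq.respectTransparency false
set_option backward.isDefEq.respectTransparency.types false

universe u

open CategoryTheory CategoryTheory.Limits AlgebraicGeometry TopologicalSpace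
open Groth.L03.BlowPt (ptI)
open Groth.L05.PtSeq (stI IsRegSurf)
open Groth.L05.MinDesing (IsBir)
open Groth.L05.RatPow (J χ)

noncomputable section

namespace Groth.L05.ResNorm

variable {W Z X : Scheme.{u}}

theorem stI_ptI_eq {z : Z} (hz : IsClosed ({z} : Set Z)) (p : Z) (e : p = z) :
    stI (ptI hz) p = (IsLocalRing.maximalIdeal (Z.presheaf.stalk z)).map
      (Z.presheaf.stalkSpecializes (specializes_of_eq e)).hom := by
  subst e
  rw [Groth.L05.PtSeq.stI_ptI, TopCat.Presheaf.stalkSpecializes_refl]
  exact (Ideal.map_id _).symm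

theorem χ_snd (h : W ⟶ Z) (z : Z) (t : (pullback h (Z.fromSpecStalk z) : Scheme.{u}))
    (e : h ((pullback.fst h (Z.fromSpecStalk z)) t) = z) (r : Z.presheaf.stalk z) :
    χ (A := Z.presheaf.stalk z) (pullback.snd h (Z.fromSpecStalk z)) t r =
      (pullback.fst h (Z.fromSpecStalk z)).stalkMap t (h.stalkMap _ (Z.presheaf.stalkSpecializes (specializes_of_eq e) r)) := by
  obtain ⟨U, hzU, s, rfl⟩ := Z.presheaf.exists_germ_eq r
  rw [TopCat.Presheaf.germ_stalkSpecializes_apply, Scheme.Hom.germ_stalkMap_apply, Scheme.Hom.germ_stalkMap_apply]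
  let g := pullback.fst h (Z.fromSpecStalk z)
  let f := pullback.snd h (Z.fromSpecStalk z)
  have hw : g ≫ h = f ≫ Z.fromSpecStalk z := pullback.condition
  have h2 : g.app (h ⁻¹ᵁ U) (h.app U s) = ((f ≫ Z.fromSpecStalk z).app U ≫ _) s := congr($(Scheme.Hom.congr_app hw U) s)
  rw [h2]
  simp only [CommRingCat.comp_apply, Scheme.Hom.comp_app]
  erw [TopCat.Presheaf.germ_res_apply]
  rw [Scheme.fromSpecStalk_app hzU]
  simp only [CommRingCat.comp_apply]
  refine Eq.trans ?_ (Scheme.Hom.germ_stalkMap_apply f (Z.fromSpecStalk z ⁻¹ᵁ U) t (by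
    show Z.fromSpecStalk z (f t) ∈ U
    rw [← Scheme.Hom.comp_apply, ← hw, Scheme.Hom.comp_apply, e]; exact hzU) _)
  erw [TopCat.Presheaf.germ_res_apply]
  exact (Scheme.Hom.germ_stalkMap_apply f ⊤ t trivial _).symm

/-- A singular point of a normal surface between a resolution and a regular surface has invertible ideal upstairs. -/
theorem exists_generator_point [IsIntegral W] [IsIntegral Z] [AlgebraicGeometry.IsNoetherian Z] (hX : IsRegSurf X)
    (hreg : ∀ w : W, IsRegularLocalRing (W.presheaf.stalk w)) (h : W ⟶ Z) [IsProper h] (hbir : IsBir h)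
    (hZ : Pi1.IsNormalScheme Z) (hd : topologicalKrullDim Z ≤ 2) (q : Z ⟶ X) (ρ : W ⟶ X) [IsProper ρ]
    (hρ : h ≫ q = ρ) (hρb : IsBir ρ) {z : Z} (hz : IsClosed ({z} : Set Z))
    (hsing : ¬ IsRegularLocalRing (Z.presheaf.stalk z)) (w : W) (hw : h w = z) :
    ∃ a, a ≠ 0 ∧ stI ((ptI hz).comap h) w = Ideal.span {a} := by
  have hW : Pi1.IsNormalScheme W := fun y => by
    haveI := hreg y
    haveI := Groth.L01.isDomain_of_regular (W.presheaf.stalk y)
    exact ⟨inferInstance, Groth.L03.RegularNormal.isIntegrallyClosed _⟩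
  haveI := (hZ z).1
  haveI := (hZ z).2
  haveI : IsLocallyNoetherian W := LocallyOfFiniteType.isLocallyNoetherian h
  haveI : IsNoetherianRing (Z.presheaf.stalk z) := inferInstance
  have hd2 : ringKrullDim (Z.presheaf.stalk z) ≤ 2 :=
    (Groth.L13.ModFibre.ringKrullDim_stalk_le_topologicalKrullDim z).trans hd
  have hdim : ringKrullDim (Z.presheaf.stalk z) = 2 := by
    by_contra h2
    refine hsing (Groth.L06.NormalAscent.regular_of_normal_dim_le_one ?_)
    have hlt := lt_of_le_of_ne hd2 h2
    rcases hd' : ringKrullDim (Z.presheaf.stalk z) with _ | d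
    · exact bot_le
    · rw [hd'] at hlt
      exact WithBot.coe_le_coe.2 (Order.le_of_lt_succ (by simpa [one_add_one_eq_two] using WithBot.coe_lt_coe.1 hlt))
  obtain ⟨hi, hp, -, hb, -⟩ := Groth.L05.RatSpread.localModification h hW hbir z
  let g := pullback.fst h (Z.fromSpecStalk z)
  let f : (pullback h (Z.fromSpecStalk z) : Scheme.{u}) ⟶ Spec (Z.presheaf.stalk z) := pullback.snd h (Z.fromSpecStalk z)
  have hsq : IsPullback g f h (Z.fromSpecStalk z) := IsPullback.of_hasPullback _ _
  haveI := hi
  haveI : IsProper f := hp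
  haveI : IsPreimmersion g := MorphismProperty.of_isPullback hsq.flip inferInstance
  have hregT : ∀ t, IsRegularLocalRing ((pullback h (Z.fromSpecStalk z) : Scheme.{u}).presheaf.stalk t) := fun t => by
    haveI := isIso_stalkMap_fst h z t
    haveI := hreg (g t)
    exact IsRegularLocalRing.of_ringEquiv (asIso (g.stalkMap t)).commRingCatIsoToRingEquiv
  have hH := subsingleton_H1_local hX hW h q ρ hρ hρb hz
  have hcurve : ∃ v, f v = IsLocalRing.closedPoint (Z.presheaf.stalk z) ∧
      ¬ IsClosed ({v} : Set (pullback h (Z.fromSpecStalk z) : Scheme.{u})) := by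
    rcases exists_curve_or_iso h hW hbir hZ hd hz with ⟨η, hη, hηc⟩ | ⟨w', hw', hiso⟩
    · obtain ⟨v, hv, hv'⟩ := Scheme.exists_preimage_of_isPullback hsq η (IsLocalRing.closedPoint (Z.presheaf.stalk z))
        (hη.trans Scheme.fromSpecStalk_closedPoint.symm)
      refine ⟨v, hv', fun hc => hηc (closure_subset_iff_isClosed.1 fun p hp => ?_)⟩
      have hηp : η ⤳ p := specializes_iff_mem_closure.2 hp
      obtain ⟨v', hv'', -⟩ := Scheme.exists_preimage_of_isPullback hsq p (IsLocalRing.closedPoint (Z.presheaf.stalk z))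
        (((hηp.map h.continuous).mem_closed hz hη).trans Scheme.fromSpecStalk_closedPoint.symm)
      have hs : v ⤳ v' := g.isEmbedding.isInducing.specializes_iff.1 (by rw [hv, hv'']; exact hηp)
      rw [Set.mem_singleton_iff, ← hv'', ← hv, show v' = v from hs.mem_closed hc rfl]
    · exfalso
      haveI := hiso
      haveI := hreg w'
      subst hw'
      exact hsing (IsRegularLocalRing.of_ringEquiv (asIso (h.stalkMap w')).commRingCatIsoToRingEquiv.symm)
  obtain ⟨t, ht, ht'⟩ := Scheme.exists_preimage_of_isPullback hsq w (IsLocalRing.closedPoint (Z.presheaf.stalk z))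
    (hw.trans Scheme.fromSpecStalk_closedPoint.symm)
  subst ht
  obtain ⟨a, ha0, ha⟩ := exists_generator (R := Z.presheaf.stalk z) f hdim hb hH hregT hcurve t
  haveI := isIso_stalkMap_fst h z t
  let e := (asIso (g.stalkMap t)).commRingCatIsoToRingEquiv
  refine ⟨e.symm a, fun h0 => ha0 (e.symm.injective (h0.trans (map_zero _).symm)), ?_⟩
  have hcomp : ((g.stalkMap t).hom.comp (h.stalkMap (g t)).hom).comp (Z.presheaf.stalkSpecializes (specializes_of_eq hw)).hom =
      χ (A := Z.presheaf.stalk z) f t := RingHom.ext fun r => (χ_snd h z t hw r).symm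
  have h1 : (stI ((ptI hz).comap h) (g t)).map (g.stalkMap t).hom = Ideal.span {a} := by
    rw [Groth.L05.PtSeq.stI_comap, stI_ptI_eq hz _ hw, Ideal.map_map, Ideal.map_map, hcomp, ha]
  have hin : Function.Injective (Ideal.map (g.stalkMap t).hom) :=
    Function.LeftInverse.injective (g := Ideal.comap (g.stalkMap t).hom) fun I =>
      Ideal.comap_map_of_bijective _ (ConcreteCategory.bijective_of_isIso (g.stalkMap t))
  refine hin (h1.trans ?_)
  rw [Ideal.map_span, Set.image_singleton]
  exact congrArg (fun x => Ideal.span {x}) (e.apply_symm_apply a).symm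

end Groth.L05.ResNorm
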