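import Groth.Agent.L05.PtSeq.NormBlow
import Groth.Agent.L05.NormChar.Main
import Groth.Agent.L16.Blow.Integral

/-!
# Normalized blow-up sequences of integral schemes are generically isomorphisms
-/

set_option autoImplicit false
set_option linter.style.haveILetI false
set_option backward.isDefEq.respectTransparency false
set_option backward.isDefEq.respectTransparency.types false

universe u

open CategoryTheory CategoryTheory.Limits AlgebraicGeometry TopologicalSpace
open Groth.L03.BlowPt (ptI)
open Groth.L05.PtSeq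

noncomputable section

namespace Groth.L05.ResNorm

theorem gen_comp {A B C : Scheme.{u}} [IsIntegral A] [IsIntegral B] [IsIntegral C] (a : A ⟶ B) (b : B ⟶ C)
    (ea : a (genericPoint A) = genericPoint B) (eb : b (genericPoint B) = genericPoint C)
    (ha : IsIso (a.stalkMap (genericPoint A))) (hb : IsIso (b.stalkMap (genericPoint B))) :
    (a ≫ b) (genericPoint A) = genericPoint C ∧ IsIso ((a ≫ b).stalkMap (genericPoint A)) := by
  refine ⟨by rw [Scheme.Hom.comp_apply, ea, eb], ?_⟩
  haveI := ha
  haveI : IsIso (b.stalkMap (a (genericPoint A))) := by rw [ea]; exact hb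
  rw [Scheme.Hom.stalkMap_comp]
  infer_instance

/-- A normalized blow-up sequence is an isomorphism at the generic points. -/
theorem seq_generic {Y X : Scheme.{u}} {g : Y ⟶ X} (hg : Resolve.IsNormPtBlowupSeq g) :
    ∀ [IsIntegral X], ∃ (_ : IsIntegral Y), g (genericPoint Y) = genericPoint X ∧ IsIso (g.stalkMap (genericPoint Y)) := by
  induction hg with
  | @iso Y X e =>
    intro hX
    haveI := hX
    haveI : Nonempty Y := ⟨e.inv (genericPoint X)⟩
    haveI : IsIntegral Y := isIntegral_of_isOpenImmersion e.hom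
    exact ⟨inferInstance, genericPoint_eq_of_isOpenImmersion e.hom, inferInstance⟩
  | @step Z' Z X hZ' hqc hqs b r z hz hb hr ih =>
    intro hX
    haveI := hX
    obtain ⟨hiZ, er, hr'⟩ := @ih hX
    haveI := hiZ
    obtain ⟨hiN, eν, hν⟩ := Groth.L05.NormChar.isIso_stalkMap_normalizationι Z'
    haveI := hiN
    have hI : ptI hz ≠ ⊥ := fun h0 => by
      have hcart := hb.1
      rw [show Scheme.IdealSheafData.vanishingIdeal ⟨{z}, hz⟩ = ptI hz from rfl, h0] at hcart
      obtain ⟨U, hU, f, hf, hfI⟩ := hcart (genericPoint Z')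
      haveI : Nonempty U.1 := ⟨⟨_, hU⟩⟩
      refine nonZeroDivisors.ne_zero hf ?_
      have h1 : f ∈ ((⊥ : Z.IdealSheafData).comap b).ideal U := hfI.ge (Ideal.mem_span_singleton_self f)
      rw [show (⊥ : Z.IdealSheafData).comap b = ⊥ from (Scheme.IdealSheafData.map_gc b).l_bot] at h1
      simpa using h1
    obtain ⟨_, eb, hbi⟩ := Groth.L16.Blow.isIntegral_and_birational hb hI
    obtain ⟨e1, h1⟩ := gen_comp b r eb er hbi hr'
    obtain ⟨e2, h2⟩ := gen_comp (Curv2.normalizationι Z') (b ≫ r) eν e1 hν h1
    exact ⟨hiN, e2, h2⟩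

end Groth.L05.ResNorm
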